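import Mathlib.Data.ZMod.Basic
import Mathlib.LinearAlgebra.Matrix.Notation
import Mathlib.Data.Matrix.Mul

/-!
# Elements of `Sp₆(3)` of orders 6, 10, 14, 15 modulo the centre
-/

set_option autoImplicit false

namespace Cfsg.Lib.Spec.PSpSixThree

/-- The standard alternating matrix. -/
def J6 : Matrix (Fin 6) (Fin 6) (ZMod 3) :=
  !![0, 0, 0, 2, 0, 0; 0, 0, 0, 0, 2, 0; 0, 0, 0, 0, 0, 2; 1, 0, 0, 0, 0, 0; 0, 1, 0, 0, 0, 0; 0, 0, 1, 0, 0, 0]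

/-- Scalar of order at most two. -/
def IsPM (A : Matrix (Fin 6) (Fin 6) (ZMod 3)) : Prop := A = 1 ∨ A = -1

theorem exists_elem_6 : ∃ M : Matrix (Fin 6) (Fin 6) (ZMod 3), M * J6 * M.transpose = J6 ∧
    IsPM (M ^ 6) ∧ ¬ IsPM (M ^ 2) ∧ ¬ IsPM (M ^ 3) := by
  refine ⟨!![2, 0, 0, 0, 1, 0; 0, 1, 0, 2, 1, 0; 0, 0, 2, 0, 0, 0; 0, 0, 0, 2, 0, 0; 0, 0, 0, 0, 1, 0; 0, 0, 0, 0, 0, 2], by decide +kernel, ?_⟩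
  have h1 : (!![2, 0, 0, 0, 1, 0; 0, 1, 0, 2, 1, 0; 0, 0, 2, 0, 0, 0; 0, 0, 0, 2, 0, 0; 0, 0, 0, 0, 1, 0; 0, 0, 0, 0, 0, 2] : Matrix (Fin 6) (Fin 6) (ZMod 3)) ^ 1 =
      !![2, 0, 0, 0, 1, 0; 0, 1, 0, 2, 1, 0; 0, 0, 2, 0, 0, 0; 0, 0, 0, 2, 0, 0; 0, 0, 0, 0, 1, 0; 0, 0, 0, 0, 0, 2] := pow_one _
  have h2 : (!![2, 0, 0, 0, 1, 0; 0, 1, 0, 2, 1, 0; 0, 0, 2, 0, 0, 0; 0, 0, 0, 2, 0, 0; 0, 0, 0, 0, 1, 0; 0, 0, 0, 0, 0, 2] : Matrix (Fin 6) (Fin 6) (ZMod 3)) ^ 2 =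
      !![1, 0, 0, 0, 0, 0; 0, 1, 0, 0, 2, 0; 0, 0, 1, 0, 0, 0; 0, 0, 0, 1, 0, 0; 0, 0, 0, 0, 1, 0; 0, 0, 0, 0, 0, 1] := (pow_add _ 1 1).trans ((congrArg₂ (· * ·) h1 h1).trans (by decide +kernel))
  have h3 : (!![2, 0, 0, 0, 1, 0; 0, 1, 0, 2, 1, 0; 0, 0, 2, 0, 0, 0; 0, 0, 0, 2, 0, 0; 0, 0, 0, 0, 1, 0; 0, 0, 0, 0, 0, 2] : Matrix (Fin 6) (Fin 6) (ZMod 3)) ^ 3 =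
      !![2, 0, 0, 0, 1, 0; 0, 1, 0, 2, 0, 0; 0, 0, 2, 0, 0, 0; 0, 0, 0, 2, 0, 0; 0, 0, 0, 0, 1, 0; 0, 0, 0, 0, 0, 2] := (pow_add _ 2 1).trans ((congrArg₂ (· * ·) h2 h1).trans (by decide +kernel))
  have h6 : (!![2, 0, 0, 0, 1, 0; 0, 1, 0, 2, 1, 0; 0, 0, 2, 0, 0, 0; 0, 0, 0, 2, 0, 0; 0, 0, 0, 0, 1, 0; 0, 0, 0, 0, 0, 2] : Matrix (Fin 6) (Fin 6) (ZMod 3)) ^ 6 =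
      !![1, 0, 0, 0, 0, 0; 0, 1, 0, 0, 0, 0; 0, 0, 1, 0, 0, 0; 0, 0, 0, 1, 0, 0; 0, 0, 0, 0, 1, 0; 0, 0, 0, 0, 0, 1] := (pow_add _ 3 3).trans ((congrArg₂ (· * ·) h3 h3).trans (by decide +kernel))
  rw [h6, h2, h3]
  unfold IsPM
  decide +kernel

theorem exists_elem_10 : ∃ M : Matrix (Fin 6) (Fin 6) (ZMod 3), M * J6 * M.transpose = J6 ∧
    IsPM (M ^ 10) ∧ ¬ IsPM (M ^ 2) ∧ ¬ IsPM (M ^ 5) := by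
  refine ⟨!![2, 1, 0, 0, 0, 0; 0, 2, 2, 2, 2, 2; 0, 1, 0, 0, 0, 1; 0, 0, 0, 2, 0, 0; 0, 2, 0, 0, 0, 1; 0, 1, 1, 2, 2, 0], by decide +kernel, ?_⟩
  have h1 : (!![2, 1, 0, 0, 0, 0; 0, 2, 2, 2, 2, 2; 0, 1, 0, 0, 0, 1; 0, 0, 0, 2, 0, 0; 0, 2, 0, 0, 0, 1; 0, 1, 1, 2, 2, 0] : Matrix (Fin 6) (Fin 6) (ZMod 3)) ^ 1 =
      !![2, 1, 0, 0, 0, 0; 0, 2, 2, 2, 2, 2; 0, 1, 0, 0, 0, 1; 0, 0, 0, 2, 0, 0; 0, 2, 0, 0, 0, 1; 0, 1, 1, 2, 2, 0] := pow_one _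
  have h2 : (!![2, 1, 0, 0, 0, 0; 0, 2, 2, 2, 2, 2; 0, 1, 0, 0, 0, 1; 0, 0, 0, 2, 0, 0; 0, 2, 0, 0, 0, 1; 0, 1, 1, 2, 2, 0] : Matrix (Fin 6) (Fin 6) (ZMod 3)) ^ 2 =
      !![1, 1, 2, 2, 2, 2; 0, 0, 0, 0, 2, 2; 0, 0, 0, 1, 1, 2; 0, 0, 0, 1, 0, 0; 0, 2, 2, 0, 0, 1; 0, 1, 2, 0, 2, 2] := (pow_add _ 1 1).trans ((congrArg₂ (· * ·) h1 h1).trans (by decide +kernel))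
  have h4 : (!![2, 1, 0, 0, 0, 0; 0, 2, 2, 2, 2, 2; 0, 1, 0, 0, 0, 1; 0, 0, 0, 2, 0, 0; 0, 2, 0, 0, 0, 1; 0, 1, 1, 2, 2, 0] : Matrix (Fin 6) (Fin 6) (ZMod 3)) ^ 4 =
      !![1, 1, 1, 0, 1, 2; 0, 0, 2, 0, 1, 0; 0, 1, 0, 1, 1, 2; 0, 0, 0, 1, 0, 0; 0, 1, 2, 2, 2, 1; 0, 0, 2, 2, 2, 0] := (pow_add _ 2 2).trans ((congrArg₂ (· * ·) h2 h2).trans (by decide +kernel))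
  have h5 : (!![2, 1, 0, 0, 0, 0; 0, 2, 2, 2, 2, 2; 0, 1, 0, 0, 0, 1; 0, 0, 0, 2, 0, 0; 0, 2, 0, 0, 0, 1; 0, 1, 1, 2, 2, 0] : Matrix (Fin 6) (Fin 6) (ZMod 3)) ^ 5 =
      !![2, 2, 1, 0, 0, 1; 0, 1, 0, 0, 0, 0; 0, 0, 1, 2, 0, 0; 0, 0, 0, 2, 0, 0; 0, 0, 0, 2, 1, 0; 0, 0, 0, 1, 0, 1] := (pow_add _ 4 1).trans ((congrArg₂ (· * ·) h4 h1).trans (by decide +kernel))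
  have h10 : (!![2, 1, 0, 0, 0, 0; 0, 2, 2, 2, 2, 2; 0, 1, 0, 0, 0, 1; 0, 0, 0, 2, 0, 0; 0, 2, 0, 0, 0, 1; 0, 1, 1, 2, 2, 0] : Matrix (Fin 6) (Fin 6) (ZMod 3)) ^ 10 =
      !![1, 0, 0, 0, 0, 0; 0, 1, 0, 0, 0, 0; 0, 0, 1, 0, 0, 0; 0, 0, 0, 1, 0, 0; 0, 0, 0, 0, 1, 0; 0, 0, 0, 0, 0, 1] := (pow_add _ 5 5).trans ((congrArg₂ (· * ·) h5 h5).trans (by decide +kernel))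
  rw [h10, h2, h5]
  unfold IsPM
  decide +kernel

theorem exists_elem_14 : ∃ M : Matrix (Fin 6) (Fin 6) (ZMod 3), M * J6 * M.transpose = J6 ∧
    IsPM (M ^ 14) ∧ ¬ IsPM (M ^ 2) ∧ ¬ IsPM (M ^ 7) := by
  refine ⟨!![1, 1, 0, 1, 1, 1; 2, 0, 2, 2, 2, 1; 2, 1, 1, 0, 1, 2; 1, 0, 0, 1, 1, 0; 2, 2, 1, 1, 1, 1; 2, 1, 2, 0, 2, 1], by decide +kernel, ?_⟩
  have h1 : (!![1, 1, 0, 1, 1, 1; 2, 0, 2, 2, 2, 1; 2, 1, 1, 0, 1, 2; 1, 0, 0, 1, 1, 0; 2, 2, 1, 1, 1, 1; 2, 1, 2, 0, 2, 1] : Matrix (Fin 6) (Fin 6) (ZMod 3)) ^ 1 =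
      !![1, 1, 0, 1, 1, 1; 2, 0, 2, 2, 2, 1; 2, 1, 1, 0, 1, 2; 1, 0, 0, 1, 1, 0; 2, 2, 1, 1, 1, 1; 2, 1, 2, 0, 2, 1] := pow_one _
  have h2 : (!![1, 1, 0, 1, 1, 1; 2, 0, 2, 2, 2, 1; 2, 1, 1, 0, 1, 2; 1, 0, 0, 1, 1, 0; 2, 2, 1, 1, 1, 1; 2, 1, 2, 0, 2, 1] : Matrix (Fin 6) (Fin 6) (ZMod 3)) ^ 2 =
      !![2, 1, 2, 2, 1, 1; 2, 0, 0, 0, 1, 0; 0, 1, 2, 2, 1, 2; 1, 0, 1, 0, 0, 2; 1, 0, 2, 2, 2, 2; 2, 0, 2, 0, 1, 1] := (pow_add _ 1 1).trans ((congrArg₂ (· * ·) h1 h1).trans (by decide +kernel))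
  have h4 : (!![1, 1, 0, 1, 1, 1; 2, 0, 2, 2, 2, 1; 2, 1, 1, 0, 1, 2; 1, 0, 0, 1, 1, 0; 2, 2, 1, 1, 1, 1; 2, 1, 2, 0, 2, 1] : Matrix (Fin 6) (Fin 6) (ZMod 3)) ^ 4 =
      !![2, 1, 2, 1, 2, 1; 2, 2, 0, 0, 1, 1; 0, 2, 0, 0, 1, 0; 0, 2, 2, 1, 1, 2; 1, 0, 1, 1, 0, 0; 1, 1, 0, 1, 1, 0] := (pow_add _ 2 2).trans ((congrArg₂ (· * ·) h2 h2).trans (by decide +kernel))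
  have h6 : (!![1, 1, 0, 1, 1, 1; 2, 0, 2, 2, 2, 1; 2, 1, 1, 0, 1, 2; 1, 0, 0, 1, 1, 0; 2, 2, 1, 1, 1, 1; 2, 1, 2, 0, 2, 1] : Matrix (Fin 6) (Fin 6) (ZMod 3)) ^ 6 =
      !![2, 1, 0, 0, 1, 1; 2, 2, 2, 0, 1, 2; 2, 0, 2, 2, 1, 2; 1, 2, 2, 0, 2, 1; 0, 2, 2, 1, 2, 2; 0, 1, 2, 1, 1, 2] := (pow_add _ 4 2).trans ((congrArg₂ (· * ·) h4 h2).trans (by decide +kernel))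
  have h7 : (!![1, 1, 0, 1, 1, 1; 2, 0, 2, 2, 2, 1; 2, 1, 1, 0, 1, 2; 1, 0, 0, 1, 1, 0; 2, 2, 1, 1, 1, 1; 2, 1, 2, 0, 2, 1] : Matrix (Fin 6) (Fin 6) (ZMod 3)) ^ 7 =
      !![2, 2, 2, 2, 1, 2; 1, 2, 2, 1, 1, 2; 2, 2, 1, 2, 2, 0; 0, 2, 1, 1, 2, 1; 2, 2, 0, 1, 1, 1; 1, 0, 0, 1, 1, 2] := (pow_add _ 6 1).trans ((congrArg₂ (· * ·) h6 h1).trans (by decide +kernel))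
  have h14 : (!![1, 1, 0, 1, 1, 1; 2, 0, 2, 2, 2, 1; 2, 1, 1, 0, 1, 2; 1, 0, 0, 1, 1, 0; 2, 2, 1, 1, 1, 1; 2, 1, 2, 0, 2, 1] : Matrix (Fin 6) (Fin 6) (ZMod 3)) ^ 14 =
      !![2, 0, 0, 0, 0, 0; 0, 2, 0, 0, 0, 0; 0, 0, 2, 0, 0, 0; 0, 0, 0, 2, 0, 0; 0, 0, 0, 0, 2, 0; 0, 0, 0, 0, 0, 2] := (pow_add _ 7 7).trans ((congrArg₂ (· * ·) h7 h7).trans (by decide +kernel))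
  rw [h14, h2, h7]
  unfold IsPM
  decide +kernel

theorem exists_elem_15 : ∃ M : Matrix (Fin 6) (Fin 6) (ZMod 3), M * J6 * M.transpose = J6 ∧
    IsPM (M ^ 15) ∧ ¬ IsPM (M ^ 3) ∧ ¬ IsPM (M ^ 5) := by
  refine ⟨!![1, 0, 2, 2, 0, 1; 2, 1, 1, 2, 0, 0; 2, 0, 0, 2, 2, 1; 1, 0, 2, 2, 1, 0; 0, 0, 0, 0, 1, 0; 0, 0, 0, 2, 0, 2], by decide +kernel, ?_⟩
  have h1 : (!![1, 0, 2, 2, 0, 1; 2, 1, 1, 2, 0, 0; 2, 0, 0, 2, 2, 1; 1, 0, 2, 2, 1, 0; 0, 0, 0, 0, 1, 0; 0, 0, 0, 2, 0, 2] : Matrix (Fin 6) (Fin 6) (ZMod 3)) ^ 1 =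
      !![1, 0, 2, 2, 0, 1; 2, 1, 1, 2, 0, 0; 2, 0, 0, 2, 2, 1; 1, 0, 2, 2, 1, 0; 0, 0, 0, 0, 1, 0; 0, 0, 0, 2, 0, 2] := pow_one _
  have h2 : (!![1, 0, 2, 2, 0, 1; 2, 1, 1, 2, 0, 0; 2, 0, 0, 2, 2, 1; 1, 0, 2, 2, 1, 0; 0, 0, 0, 0, 1, 0; 0, 0, 0, 2, 0, 2] : Matrix (Fin 6) (Fin 6) (ZMod 3)) ^ 2 =
      !![1, 0, 0, 0, 0, 2; 2, 1, 0, 0, 1, 0; 1, 0, 2, 1, 1, 1; 1, 0, 0, 1, 1, 0; 0, 0, 0, 0, 1, 0; 2, 0, 1, 2, 2, 1] := (pow_add _ 1 1).trans ((congrArg₂ (· * ·) h1 h1).trans (by decide +kernel))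
  have h3 : (!![1, 0, 2, 2, 0, 1; 2, 1, 1, 2, 0, 0; 2, 0, 0, 2, 2, 1; 1, 0, 2, 2, 1, 0; 0, 0, 0, 0, 1, 0; 0, 0, 0, 2, 0, 2] : Matrix (Fin 6) (Fin 6) (ZMod 3)) ^ 3 =
      !![1, 0, 2, 0, 0, 2; 1, 1, 2, 0, 1, 2; 0, 0, 1, 1, 0, 2; 2, 0, 1, 1, 2, 1; 0, 0, 0, 0, 1, 0; 0, 0, 2, 0, 0, 2] := (pow_add _ 2 1).trans ((congrArg₂ (· * ·) h2 h1).trans (by decide +kernel))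
  have h5 : (!![1, 0, 2, 2, 0, 1; 2, 1, 1, 2, 0, 0; 2, 0, 0, 2, 2, 1; 1, 0, 2, 2, 1, 0; 0, 0, 0, 0, 1, 0; 0, 0, 0, 2, 0, 2] : Matrix (Fin 6) (Fin 6) (ZMod 3)) ^ 5 =
      !![1, 0, 0, 0, 0, 0; 0, 1, 0, 0, 2, 0; 0, 0, 1, 0, 0, 0; 0, 0, 0, 1, 0, 0; 0, 0, 0, 0, 1, 0; 0, 0, 0, 0, 0, 1] := (pow_add _ 3 2).trans ((congrArg₂ (· * ·) h3 h2).trans (by decide +kernel))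
  have h10 : (!![1, 0, 2, 2, 0, 1; 2, 1, 1, 2, 0, 0; 2, 0, 0, 2, 2, 1; 1, 0, 2, 2, 1, 0; 0, 0, 0, 0, 1, 0; 0, 0, 0, 2, 0, 2] : Matrix (Fin 6) (Fin 6) (ZMod 3)) ^ 10 =
      !![1, 0, 0, 0, 0, 0; 0, 1, 0, 0, 1, 0; 0, 0, 1, 0, 0, 0; 0, 0, 0, 1, 0, 0; 0, 0, 0, 0, 1, 0; 0, 0, 0, 0, 0, 1] := (pow_add _ 5 5).trans ((congrArg₂ (· * ·) h5 h5).trans (by decide +kernel))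
  have h15 : (!![1, 0, 2, 2, 0, 1; 2, 1, 1, 2, 0, 0; 2, 0, 0, 2, 2, 1; 1, 0, 2, 2, 1, 0; 0, 0, 0, 0, 1, 0; 0, 0, 0, 2, 0, 2] : Matrix (Fin 6) (Fin 6) (ZMod 3)) ^ 15 =
      !![1, 0, 0, 0, 0, 0; 0, 1, 0, 0, 0, 0; 0, 0, 1, 0, 0, 0; 0, 0, 0, 1, 0, 0; 0, 0, 0, 0, 1, 0; 0, 0, 0, 0, 0, 1] := (pow_add _ 10 5).trans ((congrArg₂ (· * ·) h10 h5).trans (by decide +kernel))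
  rw [h15, h3, h5]
  unfold IsPM
  decide +kernel

end Cfsg.Lib.Spec.PSpSixThree
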