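import Cfsg.Agent.Lib.Spec.EigenOrder
import Cfsg.Agent.Lib.Spec.PSpSixThree.Elements
import Cfsg.Agent.Lib.Linear.SylowLargeSp
import Cfsg.Prelude.Def_Classical

/-!
# The prime graph of `PSp₆(3)`
-/

set_option autoImplicit false
set_option linter.unusedSectionVars false

namespace Cfsg.Lib.Spec.PSpSixThree

open Cfsg Cfsg.Lib.Spec.EigenOrder
open scoped Matrix

universe u v

/-- The primes. -/
def primesT : Finset ℕ := {2, 3, 5, 7, 13}

/-- The edges with increasing ends. -/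
def edgesT : Finset (ℕ × ℕ) := {(2, 3), (2, 5), (2, 7), (3, 5)}

/-- The prime graph `{2-3, 2-5, 2-7, 3-5, 13}`. -/
def HasGraph (X : Type*) [Group X] : Prop :=
  (∀ p : ℕ, p.Prime → (p ∣ Nat.card X ↔ p ∈ primesT)) ∧
    ∀ p r : ℕ, p.Prime → r.Prime → p < r → ((∃ g : X, orderOf g = p * r) ↔ (p, r) ∈ edgesT)

theorem HasGraph.compare {X : Type*} {Y : Type*} [Group X] [Group Y] (hX : HasGraph X) (hY : HasGraph Y) :
    (∀ p : ℕ, p.Prime → (p ∣ Nat.card X ↔ p ∣ Nat.card Y)) ∧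
      (∀ p q : ℕ, p.Prime → q.Prime → p ≠ q →
        ((∃ g : X, orderOf g = p * q) ↔ (∃ g : Y, orderOf g = p * q))) := by
  refine ⟨fun p hp => (hX.1 p hp).trans (hY.1 p hp).symm, fun p q hp hq hpq => ?_⟩
  rcases lt_or_gt_of_ne hpq with h | h
  · exact (hX.2 p q hp hq h).trans (hY.2 p q hp hq h).symm
  · rw [mul_comm p q]
    exact (hX.2 q p hq hp h).trans (hY.2 q p hq hp h).symm

/-- A group with elements of the four edge orders and no others. -/
theorem hasGraph_of {X : Type*} [Group X] [Finite X] (hsub : ∀ p : ℕ, p.Prime → p ∣ Nat.card X → p ∈ primesT)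
    (h6 : ∃ g : X, orderOf g = 6) (h10 : ∃ g : X, orderOf g = 10) (h14 : ∃ g : X, orderOf g = 14)
    (h15 : ∃ g : X, orderOf g = 15) (h13 : 13 ∣ Nat.card X)
    (hno : ∀ g : X, orderOf g ∉ ({21, 26, 35, 39, 65, 91} : Finset ℕ)) : HasGraph X := by
  have hd : ∀ {g : X} {k : ℕ}, k ∣ orderOf g → k ∣ Nat.card X := fun h => h.trans (orderOf_dvd_natCard _)
  refine ⟨fun p hp => ⟨hsub p hp, fun h => ?_⟩, fun p r hp hr hpr => ⟨fun h => ?_, fun h => ?_⟩⟩
  · obtain ⟨a, ha⟩ := h14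
    obtain ⟨b, hb⟩ := h15
    simp only [primesT, Finset.mem_insert, Finset.mem_singleton] at h
    rcases h with rfl | rfl | rfl | rfl | rfl
    · exact hd (g := a) (by rw [ha]; decide)
    · exact hd (g := b) (by rw [hb]; decide)
    · exact hd (g := b) (by rw [hb]; decide)
    · exact hd (g := a) (by rw [ha]; decide)
    · exact h13
  · obtain ⟨g, hg⟩ := h
    have hP := hsub p hp (hd (g := g) (hg ▸ dvd_mul_right p r))
    have hR := hsub r hr (hd (g := g) (hg ▸ dvd_mul_left r p))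
    have hn := hno g
    rw [hg] at hn
    simp only [primesT, Finset.mem_insert, Finset.mem_singleton] at hP hR
    rcases hP with rfl | rfl | rfl | rfl | rfl <;> rcases hR with rfl | rfl | rfl | rfl | rfl <;>
      first | decide | omega | exact absurd (by decide) hn
  · simp only [edgesT, Finset.mem_insert, Finset.mem_singleton, Prod.mk.injEq] at h
    rcases h with ⟨rfl, rfl⟩ | ⟨rfl, rfl⟩ | ⟨rfl, rfl⟩ | ⟨rfl, rfl⟩
    exacts [h6, h10, h14, h15]

theorem HasGraph.of_range {X : Type*} {Y : Type*} [Group X] [Group Y] [Finite X] [Finite Y] (hX : HasGraph X)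
    (h : Set.range (orderOf : Y → ℕ) = Set.range (orderOf : X → ℕ)) : HasGraph Y := by
  have key : ∀ m : ℕ, (∃ g : Y, orderOf g = m) ↔ ∃ g : X, orderOf g = m := fun m => Set.ext_iff.1 h m
  refine ⟨fun p hp => ?_, fun p r hp hr hpr => (key _).trans (hX.2 p r hp hr hpr)⟩
  haveI : Fact p.Prime := ⟨hp⟩
  rw [← hX.1 p hp]
  constructor <;> intro hd
  · obtain ⟨g, hg⟩ := exists_prime_orderOf_dvd_card' p hd
    obtain ⟨g', hg'⟩ := (key p).1 ⟨g, hg⟩
    exact hg' ▸ orderOf_dvd_natCard g'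
  · obtain ⟨g, hg⟩ := exists_prime_orderOf_dvd_card' p hd
    obtain ⟨g', hg'⟩ := (key p).2 ⟨g, hg⟩
    exact hg' ▸ orderOf_dvd_natCard g'

variable {F : Type u} [Field F] [Fintype F]

local notation "Sp6" => Matrix.symplecticGroup (Fin 3) F
local notation "L" => AlgebraicClosure F

/-- The transvection along `v`. -/
def tv (v : Fin 6 → ZMod 3) : Matrix (Fin 6) (Fin 6) (ZMod 3) := 1 + Matrix.vecMulVec v (v ᵥ* J6)

/-- A matrix commuting with the symplectic matrices is scalar. -/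
theorem commutant_scalar (X : Matrix (Fin 6) (Fin 6) (ZMod 3))
    (h : ∀ B : Matrix (Fin 6) (Fin 6) (ZMod 3), B * J6 * B.transpose = J6 → X * B = B * X) :
    ∃ c : ZMod 3, X = c • 1 := by
  have key : ∀ v : Fin 6 → ZMod 3, tv v * J6 * (tv v).transpose = J6 →
      Matrix.vecMulVec (X *ᵥ v) (v ᵥ* J6) = Matrix.vecMulVec v ((v ᵥ* J6) ᵥ* X) := fun v hv => by
    have h1 := h _ hv
    rw [tv, mul_add, add_mul, mul_one, one_mul, add_left_cancel_iff, Matrix.mul_vecMulVec, Matrix.vecMulVec_mul] at h1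
    exact h1
  refine ⟨X 0 0, ?_⟩
  have hs : ∀ i : Fin 6, tv (Pi.single i 1) * J6 * (tv (Pi.single i 1)).transpose = J6 := by decide +kernel
  have ht : ∀ i : Fin 6, tv (Pi.single i 1 + Pi.single 0 1) * J6 *
      (tv (Pi.single i 1 + Pi.single 0 1)).transpose = J6 := by decide +kernel
  have hp : ∀ i : Fin 6, ∃ j, (Pi.single i (1 : ZMod 3) ᵥ* J6) j ≠ 0 := by decide +kernel
  have hp' : ∀ i : Fin 6, i ≠ 0 → ∃ j, ((Pi.single i (1 : ZMod 3) + Pi.single 0 1) ᵥ* J6) j ≠ 0 := by decide +kernel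
  have hcol : ∀ v : Fin 6 → ZMod 3, tv v * J6 * (tv v).transpose = J6 → (∃ j, (v ᵥ* J6) j ≠ 0) →
      ∃ c, X *ᵥ v = c • v := fun v hv ⟨j, hj⟩ => by
    refine ⟨((v ᵥ* J6) ᵥ* X) j * ((v ᵥ* J6) j)⁻¹, funext fun i => ?_⟩
    have h1 := congrFun (congrFun (key v hv) i) j
    simp only [Matrix.vecMulVec_apply] at h1
    rw [Pi.smul_apply, smul_eq_mul, mul_comm _ (v i), ← mul_assoc, ← h1, mul_inv_cancel_right₀ hj]
  have hdiag : ∀ i, X *ᵥ Pi.single i 1 = X i i • (Pi.single i 1 : Fin 6 → ZMod 3) := fun i => by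
    obtain ⟨c, hc⟩ := hcol _ (hs i) (hp i)
    have := congrFun hc i
    simp at this
    rw [hc, this]
  refine Matrix.ext_of_mulVec_single fun i => ?_
  rw [Matrix.smul_mulVec, Matrix.one_mulVec, hdiag i]
  by_cases hi : i = 0
  · rw [hi]
  obtain ⟨c, hc⟩ := hcol _ (ht i) (hp' i hi)
  rw [Matrix.mulVec_add, hdiag, hdiag] at hc
  have e1 := congrFun hc i
  have e2 := congrFun hc 0
  simp [hi, Ne.symm hi] at e1 e2
  rw [e1, e2]

theorem pm_of_form : ∀ c : ZMod 3,
    (c • (1 : Matrix (Fin 6) (Fin 6) (ZMod 3))) * J6 * (c • (1 : Matrix (Fin 6) (Fin 6) (ZMod 3))).transpose = J6 →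
    c = 1 ∨ c = -1 := by decide +kernel

theorem scalar_mem_center {g : Sp6} {c : F}
    (h : (g : Matrix (Fin 3 ⊕ Fin 3) (Fin 3 ⊕ Fin 3) F) = c • 1) : g ∈ Subgroup.center Sp6 :=
  Subgroup.mem_center_iff.2 fun x => Subtype.ext (by
    show (x : Matrix (Fin 3 ⊕ Fin 3) (Fin 3 ⊕ Fin 3) F) * g = g * x
    rw [h, Matrix.mul_smul, Matrix.smul_mul, mul_one, one_mul])

/-- Elements of order divisible by 13 or 7 have order dividing 13 or 14 modulo the centre. -/
theorem pow_mem_center (hF : Fintype.card F = 3) (g : Sp6) :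
    (13 ∣ orderOf g → g ^ 13 ∈ Subgroup.center Sp6) ∧ (7 ∣ orderOf g → g ^ 14 ∈ Subgroup.center Sp6) := by
  classical
  set M : Matrix (Fin 3 ⊕ Fin 3) (Fin 3 ⊕ Fin 3) F := g.val with hM
  have hJ : IsUnit (Matrix.J (Fin 3) F) :=
    ⟨⟨Matrix.J (Fin 3) F, -Matrix.J (Fin 3) F, by rw [mul_neg, Matrix.J_squared, neg_neg],
      by rw [neg_mul, Matrix.J_squared, neg_neg]⟩, rfl⟩
  have hform : Mᵀ * Matrix.J (Fin 3) F * M = Matrix.J (Fin 3) F := SymplecticGroup.mem_iff'.1 g.2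
  have hcard : Fintype.card (Fin 3 ⊕ Fin 3) = 6 := rfl
  haveI hchar : CharP F 3 := charP_of_card_eq_prime hF
  have hM1 : M ^ orderOf g = 1 := by rw [hM, ← SubmonoidClass.coe_pow, pow_orderOf_eq_one]; rfl
  have main : ∀ (p : ℕ) (e : ℤ) (m : ℕ), p.Prime → p ≠ 3 → p ∣ orderOf g →
      (∀ a ∈ ({1, 3, 9, -1, -3, -9} : Finset ℤ), ∀ b ∈ ({1, 3, 9, -1, -3, -9} : Finset ℤ), (p : ℤ) ∣ a - b → a = b) →
      (∀ a ∈ ({1, 3, 9, -1, -3, -9} : Finset ℤ), (p : ℤ) ∣ 27 - a → a = e) → (27 : ℤ) - e = 2 * m →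
      g ^ m ∈ Subgroup.center Sp6 := by
    intro p e m hp hp3 hpd hS he hm
    have hg0 : orderOf g ≠ 0 := (orderOf_pos g).ne'
    obtain ⟨k, hk⟩ := hpd
    have hkp : (M ^ k) ^ p = 1 := by rw [← pow_mul, mul_comm, ← hk, hM1]
    have hk1 : M ^ k ≠ 1 := fun h => by
      have h1 : g ^ k = 1 := Subtype.ext (by rw [SubmonoidClass.coe_pow]; exact h)
      have hk0 : 0 < k := Nat.pos_of_ne_zero fun h3 => hg0 (by rw [hk, h3, mul_zero])
      have h2 := Nat.le_of_dvd hk0 (orderOf_dvd_of_pow_eq_one h1)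
      rw [hk] at h2
      have := hp.two_le
      nlinarith
    obtain ⟨r, hr, hrk⟩ := exists_eig (M := M) (k := k) (p := p)
      (fun h => hp3 ((Nat.prime_dvd_prime_iff_eq Nat.prime_three hp).1 ((CharP.cast_eq_zero_iff F 3 p).1 h)).symm) hkp hk1
    obtain ⟨-, hr0⟩ := inv_mem_eig hJ hform hr
    obtain ⟨u, rfl⟩ : ∃ u : Lˣ, (u : L) = r := ⟨Units.mk0 r hr0, rfl⟩
    have huN : u ^ orderOf g = 1 := Units.ext (by rw [Units.val_pow_eq_pow_val]; exact eig_pow_eq_one hM1 hr)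
    have hpu : p ∣ orderOf u := by
      by_contra hn
      refine hrk ?_
      have hd : orderOf u ∣ k := by
        refine Nat.Coprime.dvd_of_dvd_mul_left ((hp.coprime_iff_not_dvd.2 hn).symm) ?_
        rw [← hk]; exact orderOf_dvd_of_pow_eq_one huN
      rw [← Units.val_pow_eq_pow_val, orderOf_dvd_iff_pow_eq_one.1 hd, Units.val_one]
    have h3 : ∀ a : ℤ, ((u ^ a : Lˣ) : L) ∈ eig M → ((u ^ (3 * a) : Lˣ) : L) ∈ eig M := fun a ha => by
      have := pow_card_mem_eig ha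
      rw [hF, ← Units.val_pow_eq_pow_val, ← zpow_natCast, ← zpow_mul, mul_comm] at this
      exact this
    have hneg : ∀ a : ℤ, ((u ^ a : Lˣ) : L) ∈ eig M → ((u ^ (-a) : Lˣ) : L) ∈ eig M := fun a ha => by
      rw [zpow_neg, Units.val_inv_eq_inv_val]; exact (inv_mem_eig hJ hform ha).1
    have e1 : ((u ^ (1 : ℤ) : Lˣ) : L) ∈ eig M := by rw [zpow_one]; exact hr
    have e3 : ((u ^ (3 : ℤ) : Lˣ) : L) ∈ eig M := by simpa using h3 1 e1
    have e9 : ((u ^ (9 : ℤ) : Lˣ) : L) ∈ eig M := by simpa using h3 3 e3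
    have e27 : ((u ^ (27 : ℤ) : Lˣ) : L) ∈ eig M := by simpa using h3 9 e9
    have hmem : ∀ a ∈ ({1, 3, 9, -1, -3, -9} : Finset ℤ), ((u ^ a : Lˣ) : L) ∈ eig M := fun a ha => by
      simp only [Finset.mem_insert, Finset.mem_singleton] at ha
      rcases ha with rfl | rfl | rfl | rfl | rfl | rfl
      exacts [e1, e3, e9, hneg 1 e1, hneg 3 e3, hneg 9 e9]
    obtain ⟨-, hfull⟩ := eig_eq_image hpu _ hS hmem
    obtain ⟨hnd, hall⟩ := hfull (by rw [hcard]; decide)
    obtain ⟨a, ha, h27⟩ := hall _ e27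
    have h27' := Units.ext h27
    obtain rfl := he a ha (zpow_eq_iff_dvd hpu h27')
    have hsq : (u ^ m) ^ 2 = 1 := by
      rw [← pow_mul, ← zpow_natCast, Nat.cast_mul, Nat.cast_ofNat, mul_comm, ← hm, zpow_sub, h27', mul_inv_cancel]
    obtain ⟨c, hc⟩ : ∃ c : F, ((u ^ m : Lˣ) : L) = algebraMap F L c ∧ c * c = 1 := by
      have h4 : ((u ^ m : Lˣ) : L) * ((u ^ m : Lˣ) : L) = 1 := by rw [← Units.val_mul, ← sq, hsq, Units.val_one]
      rcases mul_self_eq_one_iff.1 h4 with h | h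
      · exact ⟨1, by rw [h, map_one], one_mul 1⟩
      · exact ⟨-1, by rw [h, map_neg, map_one], by ring⟩
    have hpow : M ^ m = c • 1 := pow_eq_smul hnd fun z hz => by
      obtain ⟨b, hb, rfl⟩ := hall z hz
      have hodd : ∃ t : ℤ, b = 2 * t + 1 := by
        simp only [Finset.mem_insert, Finset.mem_singleton] at hb
        rcases hb with rfl | rfl | rfl | rfl | rfl | rfl
        exacts [⟨0, rfl⟩, ⟨1, rfl⟩, ⟨4, rfl⟩, ⟨-1, rfl⟩, ⟨-2, rfl⟩, ⟨-5, rfl⟩]
      obtain ⟨t, rfl⟩ := hodd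
      rw [← Units.val_pow_eq_pow_val, ← hc.1, ← zpow_natCast (u ^ (2 * t + 1)), ← zpow_mul, mul_comm,
        zpow_mul, zpow_natCast, zpow_add, zpow_mul, zpow_two, ← sq, hsq, one_zpow, one_mul, zpow_one]
    exact scalar_mem_center (c := c) (by rw [SubmonoidClass.coe_pow]; exact hpow)
  exact ⟨fun h => main 13 1 13 (by norm_num) (by norm_num) h (by decide) (by decide) (by norm_num),
    fun h => main 7 (-1) 14 (by norm_num) (by norm_num) h (by decide) (by decide) (by norm_num)⟩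

/-- A computed element inside `PSp₆(3)`. -/
theorem exists_elem (hF : Fintype.card F = 3) {n p r : ℕ} (hp : p.Prime) (hr : r.Prime) (hpr : p ≠ r)
    (hn : n = p * r)
    (h : ∃ M : Matrix (Fin 6) (Fin 6) (ZMod 3), M * J6 * M.transpose = J6 ∧
      IsPM (M ^ n) ∧ ¬ IsPM (M ^ p) ∧ ¬ IsPM (M ^ r)) :
    ∃ x : Cfsg.PSp 3 F, orderOf x = n := by
  obtain ⟨A, hA, hn1, hp1, hr1⟩ := h
  haveI : Fact (Nat.Prime 3) := ⟨Nat.prime_three⟩
  haveI hchar : CharP F 3 := charP_of_card_eq_prime hF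
  let f : ZMod 3 →+* F := ZMod.castHom dvd_rfl F
  let Φ : Matrix (Fin 6) (Fin 6) (ZMod 3) →+* Matrix (Fin 3 ⊕ Fin 3) (Fin 3 ⊕ Fin 3) F :=
    (Matrix.reindexAlgEquiv F F (finSumFinEquiv.symm : Fin (3 + 3) ≃ _)).toRingEquiv.toRingHom.comp f.mapMatrix
  have hΦ : Function.Injective Φ := fun a b e =>
    Matrix.map_injective f.injective ((Matrix.reindexAlgEquiv F F
      (finSumFinEquiv.symm : Fin (3 + 3) ≃ _)).injective e)
  have hΦT : ∀ B, Φ Bᵀ = (Φ B)ᵀ := fun B => by ext i j; rfl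
  have hJ : Φ J6 = Matrix.J (Fin 3) F := by
    ext i j
    have h2 : (2 : F) = -1 := by
      have : ((3 : ℕ) : F) = 0 := CharP.cast_eq_zero F 3
      push_cast at this; linear_combination this
    have f2 : f 2 = -1 := by rw [map_ofNat, h2]
    rcases i with i | i <;> rcases j with j | j <;> fin_cases i <;> fin_cases j <;>
      simp [Φ, J6, Matrix.J, f2, finSumFinEquiv, Fin.castAdd, Fin.natAdd]
  have hmem : Φ A ∈ Matrix.symplecticGroup (Fin 3) F := by
    rw [SymplecticGroup.mem_iff, ← hJ, ← hΦT, ← map_mul, ← map_mul, hA]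
  let g : Sp6 := ⟨Φ A, hmem⟩
  let π := QuotientGroup.mk' (Subgroup.center Sp6)
  have hbad : ∀ k : ℕ, π g ^ k = 1 → ¬ ¬ IsPM (A ^ k) := fun k hk hnot => by
    rw [← map_pow, QuotientGroup.mk'_apply, QuotientGroup.eq_one_iff] at hk
    obtain ⟨c, hc⟩ : ∃ c : ZMod 3, A ^ k = c • 1 := by
      have hcomm : ∀ B : Matrix (Fin 6) (Fin 6) (ZMod 3), B * J6 * B.transpose = J6 → A ^ k * B = B * A ^ k :=
        fun B hB => hΦ (by
          have h1 := congrArg Subtype.val (Subgroup.mem_center_iff.1 hk ⟨Φ B, by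
            rw [SymplecticGroup.mem_iff, ← hJ, ← hΦT, ← map_mul, ← map_mul, hB]⟩)
          rw [map_mul, map_mul, map_pow]
          exact h1.symm)
      exact commutant_scalar _ hcomm
    refine hnot ?_
    have h2 : (A ^ k) * J6 * (A ^ k).transpose = J6 := hΦ (by
      rw [map_mul, map_mul, hΦT, map_pow, hJ]
      exact SymplecticGroup.mem_iff.1 (pow_mem hmem k))
    rw [hc] at h2 ⊢
    have := pm_of_form c h2
    rcases this with rfl | rfl
    · exact Or.inl (one_smul _ _)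
    · exact Or.inr (neg_one_smul _ _)
  have hone : π g ^ n = 1 := by
    rw [← map_pow, QuotientGroup.mk'_apply, QuotientGroup.eq_one_iff]
    rcases hn1 with h | h
    · exact scalar_mem_center (c := 1) (by rw [SubmonoidClass.coe_pow, ← map_pow, h, map_one, one_smul])
    · exact scalar_mem_center (c := -1) (by rw [SubmonoidClass.coe_pow, ← map_pow, h, map_neg, map_one, neg_one_smul])
  refine ⟨π g, ?_⟩
  have hd := orderOf_dvd_of_pow_eq_one hone
  rw [hn] at hd ⊢
  have hnp : ¬ orderOf (π g) ∣ p := fun h => hbad p (orderOf_dvd_iff_pow_eq_one.1 h) hp1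
  have hnr : ¬ orderOf (π g) ∣ r := fun h => hbad r (orderOf_dvd_iff_pow_eq_one.1 h) hr1
  obtain ⟨a, b, ha, hb, hab⟩ := exists_dvd_and_dvd_of_dvd_mul hd
  rcases (Nat.dvd_prime hp).1 ha with rfl | rfl
  · exact absurd (hab.trans (one_mul b) ▸ hb) hnr
  rcases (Nat.dvd_prime hr).1 hb with rfl | rfl
  · exact absurd (hab.trans (mul_one a) ▸ ha) hnp
  exact hab

theorem hasGraph_psp (hF : Fintype.card F = 3) : HasGraph (Cfsg.PSp 3 F) := by
  have hcard : Nat.card Sp6 = 3 ^ 9 * (8 * 80 * 728) := by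
    rw [Cfsg.Agent.SylowLargeSp.card_sp hF]
    simp [Finset.prod_range_succ]
  obtain ⟨a, ha⟩ := exists_elem hF Nat.prime_two (by norm_num : Nat.Prime 7) (by norm_num) rfl exists_elem_14
  have hmk : ∀ (g : Sp6) (k : ℕ), g ^ k ∈ Subgroup.center Sp6 →
      orderOf (QuotientGroup.mk g : Cfsg.PSp 3 F) ∣ k := fun g k hk =>
    orderOf_dvd_of_pow_eq_one (by rw [← QuotientGroup.mk_pow, QuotientGroup.eq_one_iff]; exact hk)
  refine hasGraph_of (fun p hp hd => ?_)
    (exists_elem hF Nat.prime_two Nat.prime_three (by norm_num) rfl exists_elem_6)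
    (exists_elem hF Nat.prime_two Nat.prime_five (by norm_num) rfl exists_elem_10) ⟨a, ha⟩
    (exists_elem hF Nat.prime_three Nat.prime_five (by norm_num) rfl exists_elem_15) ?_ fun x hx => ?_
  · have hd' : p ∣ 2 ^ 10 * (3 ^ 9 * (5 * (7 * 13))) := by
      have := hd.trans (Subgroup.card_quotient_dvd_card (Subgroup.center Sp6))
      rwa [hcard] at this
    have pp : ∀ {a k : ℕ}, a.Prime → p ∣ a ^ k → p = a := fun ha h =>
      (Nat.prime_dvd_prime_iff_eq hp ha).1 (hp.dvd_of_dvd_pow h)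
    simp only [hp.dvd_mul] at hd'
    simp only [primesT, Finset.mem_insert, Finset.mem_singleton]
    rcases hd' with h | h | h | h | h
    · exact Or.inl (pp Nat.prime_two h)
    · exact Or.inr (Or.inl (pp Nat.prime_three h))
    all_goals
      first
        | exact Or.inr (Or.inr (Or.inl ((Nat.prime_dvd_prime_iff_eq hp (by norm_num)).1 h)))
        | exact Or.inr (Or.inr (Or.inr (Or.inl ((Nat.prime_dvd_prime_iff_eq hp (by norm_num)).1 h))))
        | exact Or.inr (Or.inr (Or.inr (Or.inr ((Nat.prime_dvd_prime_iff_eq hp (by norm_num)).1 h))))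
  · haveI : Fact (Nat.Prime 13) := ⟨by norm_num⟩
    obtain ⟨g, hg⟩ := exists_prime_orderOf_dvd_card' (G := Sp6) 13 (by rw [hcard]; norm_num)
    rw [← hg]
    by_cases hc : g ∈ Subgroup.center Sp6
    · exfalso
      obtain ⟨b, rfl⟩ := QuotientGroup.mk_surjective a
      have h1 : (QuotientGroup.mk (b * g) : Cfsg.PSp 3 F) = QuotientGroup.mk b := by
        rw [QuotientGroup.mk_mul, (QuotientGroup.eq_one_iff g).2 hc, mul_one]
      have h2 : 13 ∣ orderOf (b * g) := by
        by_contra h13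
        have hco : Commute b g := Subgroup.mem_center_iff.1 hc b
        have h3 : g ^ orderOf (b * g) ∈ Subgroup.zpowers b := by
          have := pow_orderOf_eq_one (b * g)
          rw [hco.mul_pow] at this
          rw [eq_inv_of_mul_eq_one_right this]
          exact inv_mem (pow_mem (Subgroup.mem_zpowers b) _)
        have h4 : g ∈ Subgroup.zpowers b := by
          have hz : Nat.Coprime (orderOf (b * g)) (orderOf g) := by
            rw [hg]; exact ((Nat.Prime.coprime_iff_not_dvd (by norm_num)).2 h13).symm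
          obtain ⟨k, hk⟩ := exists_pow_eq_self_of_coprime hz
          rw [← hk]
          exact pow_mem h3 k
        have h5 : 13 ∣ orderOf b := hg ▸ orderOf_dvd_of_mem_zpowers h4
        have := hmk b 13 ((pow_mem_center hF b).1 h5)
        rw [ha] at this
        norm_num at this
      have := hmk _ 13 ((pow_mem_center hF (b * g)).1 h2)
      rw [h1, ha] at this
      norm_num at this
    · refine Dvd.dvd.trans ?_ (orderOf_dvd_natCard (QuotientGroup.mk g : Cfsg.PSp 3 F))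
      have h1 : orderOf (QuotientGroup.mk g : Cfsg.PSp 3 F) ∣ orderOf g := orderOf_map_dvd (QuotientGroup.mk' _) g
      rw [hg] at h1 ⊢
      rcases (Nat.dvd_prime (by norm_num)).1 h1 with h | h
      · exact absurd ((QuotientGroup.eq_one_iff g).1 (orderOf_eq_one_iff.1 h)) hc
      · rw [h]
  · obtain ⟨g, rfl⟩ := QuotientGroup.mk_surjective x
    have hdvd : orderOf (QuotientGroup.mk g : Cfsg.PSp 3 F) ∣ orderOf g := orderOf_map_dvd (QuotientGroup.mk' _) g
    simp only [Finset.mem_insert, Finset.mem_singleton] at hx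
    have h13 := fun h => hmk g 13 ((pow_mem_center hF g).1 h)
    have h7 := fun h => hmk g 14 ((pow_mem_center hF g).2 h)
    rcases hx with h | h | h | h | h | h <;> rw [h] at hdvd h13 h7
    · exact absurd (h7 ((show 7 ∣ 21 by norm_num).trans hdvd)) (by norm_num)
    · exact absurd (h13 ((show 13 ∣ 26 by norm_num).trans hdvd)) (by norm_num)
    · exact absurd (h7 ((show 7 ∣ 35 by norm_num).trans hdvd)) (by norm_num)
    · exact absurd (h13 ((show 13 ∣ 39 by norm_num).trans hdvd)) (by norm_num)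
    · exact absurd (h13 ((show 13 ∣ 65 by norm_num).trans hdvd)) (by norm_num)
    · exact absurd (h13 ((show 13 ∣ 91 by norm_num).trans hdvd)) (by norm_num)

end Cfsg.Lib.Spec.PSpSixThree
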