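import Cfsg.Agent.Lib.Spec.EigenOrder
import Cfsg.Agent.Lib.Spec.PSpSixThree.Symplectic
import Cfsg.Agent.Lib.Spec.Unbounded
import Cfsg.Agent.Lib.Linear.Suzuki.Partition
import Cfsg.Agent.Lib.Linear.Suzuki.LieForm
import Mathlib.FieldTheory.Finite.GaloisField
import Mathlib.Algebra.Polynomial.Expand

/-!
# `Sz(8).3` on its twisted tensor module

The semidirect product has the prime graph of `PSp₆(3)`.
-/

set_option autoImplicit false
set_option linter.unusedSectionVars false
set_option linter.style.haveILetI false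

namespace Cfsg.Lib.Spec.PSpSixThree

open Cfsg.Lib.Linear.Suz Cfsg.Lib.Spec.EigenOrder Polynomial
open scoped Matrix

/-- The field with eight elements. -/
abbrev K := GaloisField 2 3

noncomputable instance fintypeK : Fintype K := Fintype.ofFinite K

theorem params : Params K 1 :=
  ⟨le_rfl, by rw [← Nat.card_eq_fintype_card, GaloisField.card 2 3 (by norm_num)]⟩

/-- The Suzuki group. -/
abbrev S8 := ↥(Cfsg.Sz K 1)

/-- The field automorphisms. -/
abbrev Gal8 := K ≃ₐ[ZMod 2] K

/-- The underlying matrix. -/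
noncomputable def mat (g : S8) : Matrix (Fin 4) (Fin 4) K := g.1.1

theorem mat_one : mat 1 = 1 := rfl

theorem mat_mul (g h : S8) : mat (g * h) = mat g * mat h := rfl

theorem mat_pow (g : S8) (k : ℕ) : mat (g ^ k) = mat g ^ k := by
  induction k with
  | zero => simp [mat_one]
  | succ k ih => rw [pow_succ, mat_mul, ih, pow_succ]

theorem mat_injective : Function.Injective mat := fun _ _ h => Subtype.ext (Subtype.ext h)

theorem card_gal : Nat.card Gal8 = 3 := by
  rw [IsGalois.card_aut_eq_finrank, GaloisField.finrank 2 (by norm_num : (3 : ℕ) ≠ 0)]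

theorem map_mem (σ : K →+* K) {g : Matrix.SpecialLinearGroup (Fin 4) K} (hg : g ∈ Cfsg.Sz K 1) :
    Matrix.SpecialLinearGroup.map σ g ∈ Cfsg.Sz K 1 := by
  have h := params
  let H : Subgroup S8 :=
    ((Cfsg.Sz K 1).comap (Matrix.SpecialLinearGroup.map σ)).subgroupOf (Cfsg.Sz K 1)
  have hH : H = ⊤ := by
    refine eq_top_of_gens h H (fun a b => ?_) (fun k => ?_) ?_
    · show Matrix.SpecialLinearGroup.map σ (uSL 1 a b) ∈ Cfsg.Sz K 1
      rw [show Matrix.SpecialLinearGroup.map σ (uSL 1 a b) = uSL 1 (σ a) (σ b) from Subtype.ext (by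
        show (uM 1 a b).map σ = uM 1 (σ a) (σ b)
        ext i j
        fin_cases i <;> fin_cases j <;> simp [uM, th, map_pow])]
      exact uSL_mem h _ _
    · show Matrix.SpecialLinearGroup.map σ (dHom K 1 k) ∈ Cfsg.Sz K 1
      rw [show Matrix.SpecialLinearGroup.map σ (dHom K 1 k) = dHom K 1 (Units.map σ.toMonoidHom k) from Subtype.ext (by
        show (dM 1 k).map σ = dM 1 _
        ext i j
        fin_cases i <;> fin_cases j <;> simp [dM])]
      exact dHom_mem h _
    · show Matrix.SpecialLinearGroup.map σ (wSL K) ∈ Cfsg.Sz K 1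
      rw [show Matrix.SpecialLinearGroup.map σ (wSL K) = wSL K from Subtype.ext (by
        show (wM K).map σ = wM K
        ext i j
        fin_cases i <;> fin_cases j <;> simp [wM])]
      exact wSL_mem h
  have := hH.ge (Subgroup.mem_top ⟨g, hg⟩)
  exact this

/-- The field automorphisms on the Suzuki group. -/
noncomputable def act : Gal8 →* MulAut S8 where
  toFun σ :=
    { toFun := fun g => ⟨Matrix.SpecialLinearGroup.map (σ : K →+* K) g.1, map_mem _ g.2⟩
      invFun := fun g => ⟨Matrix.SpecialLinearGroup.map (σ.symm : K →+* K) g.1, map_mem _ g.2⟩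
      left_inv := fun g => Subtype.ext (Subtype.ext (Matrix.ext fun i j => σ.symm_apply_apply _))
      right_inv := fun g => Subtype.ext (Subtype.ext (Matrix.ext fun i j => σ.apply_symm_apply _))
      map_mul' := fun g h => Subtype.ext (map_mul (Matrix.SpecialLinearGroup.map (σ : K →+* K)) g.1 h.1) }
  map_one' := MulEquiv.ext fun g => Subtype.ext (Subtype.ext (Matrix.ext fun i j => rfl))
  map_mul' σ τ := MulEquiv.ext fun g => Subtype.ext (Subtype.ext (Matrix.ext fun i j => rfl))

theorem mat_act (σ : Gal8) (g : S8) : mat (act σ g) = (mat g).map σ := rfl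

/-- `Sz(8).3`. -/
abbrev G8 := S8 ⋊[act] Gal8

/-- The Frobenius twist. -/
noncomputable def sq : Matrix (Fin 4) (Fin 4) K →+* Matrix (Fin 4) (Fin 4) K := (frobenius K 2).mapMatrix

theorem sq_map (σ : Gal8) (A : Matrix (Fin 4) (Fin 4) K) : sq (A.map σ) = (sq A).map σ := by
  ext i j
  simp [sq, frobenius_def]

@[simp]
theorem map_one_gal (M : Matrix (Fin 4) (Fin 4) K) : M.map (1 : Gal8) = M := Matrix.ext fun _ _ => rfl

/-- The semilinear action on matrices. -/
noncomputable def lin (x : G8) (M : Matrix (Fin 4) (Fin 4) K) : Matrix (Fin 4) (Fin 4) K :=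
  mat x.left * M.map x.right * (sq (mat x.left))ᵀ

theorem lin_one (M : Matrix (Fin 4) (Fin 4) K) : lin 1 M = M := by
  simp [lin, mat_one]

theorem lin_mul (x y : G8) (M : Matrix (Fin 4) (Fin 4) K) : lin (x * y) M = lin x (lin y M) := by
  have hm : ∀ A B : Matrix (Fin 4) (Fin 4) K, (A * B).map x.right = A.map x.right * B.map x.right :=
    fun A B => Matrix.map_mul (f := (x.right : K →+* K))
  simp only [lin, SemidirectProduct.mul_left, SemidirectProduct.mul_right, mat_mul, mat_act, map_mul, sq_map,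
    Matrix.transpose_mul, hm, Matrix.transpose_map]
  simp only [Matrix.mul_assoc]
  rfl

theorem lin_add (x : G8) (M N : Matrix (Fin 4) (Fin 4) K) : lin x (M + N) = lin x M + lin x N := by
  simp only [lin, Matrix.map_add _ (map_add x.right), mul_add, add_mul]

/-- The module. -/
abbrev W8 := Multiplicative (Matrix (Fin 4) (Fin 4) K)

/-- The module structure. -/
noncomputable def rho : G8 →* MulAut W8 where
  toFun x :=
    { toFun := fun M => Multiplicative.ofAdd (lin x M.toAdd)
      invFun := fun M => Multiplicative.ofAdd (lin x⁻¹ M.toAdd)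
      left_inv := fun M => by simp [← lin_mul, lin_one]
      right_inv := fun M => by simp [← lin_mul, lin_one]
      map_mul' := fun M N => by simp [lin_add] }
  map_one' := MulEquiv.ext fun M => by
    show Multiplicative.ofAdd (lin 1 M.toAdd) = M
    rw [lin_one]; rfl
  map_mul' x y := MulEquiv.ext fun M => by
    show Multiplicative.ofAdd (lin (x * y) M.toAdd) = Multiplicative.ofAdd (lin x (lin y M.toAdd))
    rw [lin_mul]

/-- The group of the example. -/
abbrev H8 := W8 ⋊[rho] G8

instance : Finite Gal8 := Nat.finite_of_card_ne_zero (by rw [card_gal]; norm_num)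

instance : Finite G8 := Finite.of_equiv _ SemidirectProduct.equivProd.symm

instance : Finite H8 := Finite.of_equiv _ SemidirectProduct.equivProd.symm

theorem card_S8 : Nat.card S8 = 2 ^ 6 * (5 * 13 * 7) := by rw [card_Sz' params]; norm_num

theorem card_G8 : Nat.card G8 = 2 ^ 6 * (5 * 13 * 7) * 3 := by
  rw [SemidirectProduct.card, card_S8, card_gal]

theorem form_isUnit : IsUnit (Cfsg.suzukiForm K) :=
  ⟨⟨Cfsg.suzukiForm K, Cfsg.suzukiForm K, by
      ext i j; fin_cases i <;> fin_cases j <;> simp [Cfsg.suzukiForm, Matrix.mul_apply, Fin.sum_univ_four],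
    by ext i j; fin_cases i <;> fin_cases j <;> simp [Cfsg.suzukiForm, Matrix.mul_apply, Fin.sum_univ_four]⟩, rfl⟩

theorem sq_form : sq (Cfsg.suzukiForm K) = Cfsg.suzukiForm K := by
  ext i j; fin_cases i <;> fin_cases j <;> simp [sq, Cfsg.suzukiForm]

local notation "L" => AlgebraicClosure K

theorem charP_L : CharP L 2 := charP_of_injective_algebraMap (algebraMap K L).injective 2

/-- Squaring commutes with twisting the coefficients. -/
theorem eval_sq (P : K[X]) (w : L) :
    (P.map (frobenius K 2)).eval₂ (algebraMap K L) (w ^ 2) = P.eval₂ (algebraMap K L) w ^ 2 := by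
  haveI := charP_L
  rw [eval₂_map]
  have e : (algebraMap K L).comp (frobenius K 2) = (frobenius L 2).comp (algebraMap K L) :=
    RingHom.ext fun c => by simp [frobenius_def]
  rw [e, ← frobenius_def, ← hom_eval₂, frobenius_def]

theorem mem_eig_iff_eval₂ {A : Matrix (Fin 4) (Fin 4) K} {z : L} :
    z ∈ eig A ↔ A.charpoly.eval₂ (algebraMap K L) z = 0 := by
  rw [eig, mem_roots (A.charpoly_monic.map _).ne_zero, IsRoot, eval_map]

/-- The eigenvalues of an element of order 7 or 13. -/
theorem exists_unit_eig {g : S8} {p : ℕ} (hp : p.Prime) (hp2 : p ≠ 2) (hg : orderOf g = p) :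
    ∃ u : Lˣ, orderOf u = p ∧ ((u : L) ∈ eig (mat g)) ∧
      ∀ a : ℤ, ((u ^ a : Lˣ) : L) ∈ eig (mat g) →
        ((u ^ (-a) : Lˣ) : L) ∈ eig (mat g) ∧ ((u ^ (8 * a) : Lˣ) : L) ∈ eig (mat g) := by
  have hM : mat g ^ p = 1 := by rw [← mat_pow, ← hg, pow_orderOf_eq_one, mat_one]
  obtain ⟨r, hr, hr1⟩ := exists_eig (M := mat g) (k := 1) (p := p)
    (fun h => hp2 ((Nat.prime_dvd_prime_iff_eq Nat.prime_two hp).1 ((CharP.cast_eq_zero_iff K 2 p).1 h)).symm)
    (by rw [pow_one, hM]) (by
      rw [pow_one, ← mat_one]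
      intro h
      rw [mat_injective h, orderOf_one] at hg
      exact hp.ne_one hg.symm)
  have hinv := fun {z : L} (hz : z ∈ eig (mat g)) => inv_mem_eig form_isUnit (form_of_mem params g) hz
  obtain ⟨u, rfl⟩ : ∃ u : Lˣ, (u : L) = r := ⟨Units.mk0 r (hinv hr).2, rfl⟩
  refine ⟨u, ?_, hr, fun a ha => ⟨?_, ?_⟩⟩
  · haveI : Fact p.Prime := ⟨hp⟩
    exact orderOf_eq_prime (Units.ext (by rw [Units.val_pow_eq_pow_val]; exact eig_pow_eq_one hM hr))
      fun h => hr1 (by rw [h, Units.val_one, pow_one])
  · rw [zpow_neg, Units.val_inv_eq_inv_val]; exact (hinv ha).1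
  · have := pow_card_mem_eig ha
    rw [show Fintype.card K = 8 from params.card, ← Units.val_pow_eq_pow_val, ← zpow_natCast, ← zpow_mul,
      mul_comm] at this
    exact this

/-- An element of order 13 fixes no nonzero matrix. -/
theorem fpf13 {g : S8} (hg : orderOf g = 13) {M : Matrix (Fin 4) (Fin 4) K}
    (h : mat g * M * (sq (mat g))ᵀ = M) : M = 0 := by
  classical
  obtain ⟨u, hu, hu1, hcl⟩ := exists_unit_eig (by norm_num) (by norm_num) hg
  have e1 : ((u ^ (1 : ℤ) : Lˣ) : L) ∈ eig (mat g) := by rw [zpow_one]; exact hu1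
  have hmem : ∀ a ∈ ({1, 8, -1, -8} : Finset ℤ), ((u ^ a : Lˣ) : L) ∈ eig (mat g) := fun a ha => by
    simp only [Finset.mem_insert, Finset.mem_singleton] at ha
    rcases ha with rfl | rfl | rfl | rfl
    exacts [e1, (hcl 1 e1).2, (hcl 1 e1).1, (hcl _ (hcl 1 e1).2).1]
  obtain ⟨-, hfull⟩ := eig_eq_image (p := 13) (hu ▸ dvd_rfl) ({1, 8, -1, -8} : Finset ℤ) (by decide) hmem
  obtain ⟨-, hall⟩ := hfull rfl
  set P := (mat g).charpoly with hP
  have hcop : IsCoprime P (P.map (frobenius K 2)) := by
    rw [Polynomial.isCoprime_iff_aeval_ne_zero_of_isAlgClosed K L]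
    intro z
    by_contra hz
    push Not at hz
    obtain ⟨hz1, hz2⟩ := hz
    obtain ⟨w, rfl⟩ := IsAlgClosed.exists_pow_nat_eq z (n := 2) (by norm_num)
    rw [aeval_def] at hz1 hz2
    rw [eval_sq] at hz2
    obtain ⟨a, ha, e⟩ := hall w (mem_eig_iff_eval₂.2 (pow_eq_zero_iff (by norm_num) |>.1 hz2))
    obtain ⟨b, hb, e'⟩ := hall _ (mem_eig_iff_eval₂.2 hz1)
    rw [e, ← Units.val_pow_eq_pow_val, ← zpow_natCast, ← zpow_mul] at e'
    have hdvd := zpow_eq_iff_dvd (p := 13) (hu ▸ dvd_rfl) (Units.ext e')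
    push_cast at hdvd
    have key : ∀ c ∈ ({1, 8, -1, -8} : Finset ℤ), ∀ d ∈ ({1, 8, -1, -8} : Finset ℤ), ¬ (13 : ℤ) ∣ c * 2 - d := by
      decide
    exact key a ha b hb hdvd
  have hform : (sq (mat g))ᵀ * Cfsg.suzukiForm K * sq (mat g) = Cfsg.suzukiForm K := by
    have h1 := congrArg sq (form_of_mem params g)
    rw [map_mul, map_mul, sq_form, show sq ((g.1 : Matrix (Fin 4) (Fin 4) K)ᵀ) = (sq (mat g))ᵀ from rfl] at h1
    exact h1
  have hint : mat g * (M * Cfsg.suzukiForm K) = M * Cfsg.suzukiForm K * sq (mat g) := by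
    conv_rhs => rw [← h]
    rw [Matrix.mul_assoc (mat g * M), Matrix.mul_assoc (mat g * M), hform, Matrix.mul_assoc]
  have haev : ∀ Q : K[X], aeval (mat g) Q * (M * Cfsg.suzukiForm K) =
      M * Cfsg.suzukiForm K * aeval (sq (mat g)) Q := fun Q => by
    induction Q using Polynomial.induction_on' with
    | add Q R hQ hR => rw [map_add, map_add, add_mul, mul_add, hQ, hR]
    | monomial k c =>
      rw [aeval_monomial, aeval_monomial, ← Algebra.smul_def, ← Algebra.smul_def, Matrix.smul_mul, Matrix.mul_smul]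
      congr 1
      exact ((show SemiconjBy (M * Cfsg.suzukiForm K) (sq (mat g)) (mat g) from hint.symm).pow_right k).symm
  obtain ⟨a, b, hab⟩ := hcop
  have hsq : aeval (sq (mat g)) (P.map (frobenius K 2)) = 0 := by
    rw [hP, ← Matrix.charpoly_map]
    exact Matrix.aeval_self_charpoly _
  have h1 := congrArg (aeval (sq (mat g))) hab
  rw [map_add, map_mul, map_mul, hsq, mul_zero, add_zero, map_one] at h1
  have h0 : M * Cfsg.suzukiForm K = 0 := by
    calc M * Cfsg.suzukiForm K = M * Cfsg.suzukiForm K * aeval (sq (mat g)) (P * a) := by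
          rw [mul_comm P a, map_mul, h1, mul_one]
      _ = aeval (mat g) (P * a) * (M * Cfsg.suzukiForm K) := (haev _).symm
      _ = 0 := by rw [map_mul, hP, Matrix.aeval_self_charpoly, zero_mul, zero_mul]
  exact form_isUnit.mul_left_eq_zero.1 h0

/-- Outer elements centralise no element of order 7 or 13. -/
theorem no_commute {g : S8} {p : ℕ} (hp : p = 7 ∨ p = 13) (hg : orderOf g = p) {σ : Gal8} (hσ : σ ≠ 1) (a : S8)
    (h : a * act σ g = g * a) : False := by
  classical
  have hpp : p.Prime := by rcases hp with rfl | rfl <;> norm_num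
  obtain ⟨u, hu, hu1, hcl⟩ := exists_unit_eig hpp (by omega) hg
  set P := (mat g).charpoly with hP
  have hsimp : ((mat g).map σ).charpoly = P := by
    have e : act σ g = a⁻¹ * (g * a) := by rw [← h, inv_mul_cancel_left]
    rw [← mat_act, e, mat_mul, mat_mul, Matrix.charpoly_mul_comm, Matrix.mul_assoc, ← mat_mul a, mul_inv_cancel,
      mat_one, Matrix.mul_one]
  have hfix : P.map (σ : K →+* K) = P := by
    rw [hP, ← Matrix.charpoly_map]
    exact hsimp
  have hbase : P.map (frobenius K 2) = P := by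
    refine Polynomial.ext fun i => ?_
    rw [coeff_map, frobenius_def]
    have hci : σ (P.coeff i) = P.coeff i := by
      have := congrArg (fun Q => Q.coeff i) hfix
      simpa [coeff_map] using this
    have hall : ∀ τ : Gal8, τ (P.coeff i) = P.coeff i := by
      haveI : Fact (Nat.Prime 3) := ⟨by norm_num⟩
      intro τ
      have hz : τ ∈ Subgroup.zpowers σ := mem_zpowers_of_prime_card card_gal hσ
      have hle : Subgroup.zpowers σ ≤ MulAction.stabilizer Gal8 (P.coeff i) :=
        Subgroup.zpowers_le.2 hci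
      exact hle hz
    obtain ⟨c, hc⟩ := (IsGalois.mem_range_algebraMap_iff_fixed (F := ZMod 2) (E := K) (P.coeff i)).2 hall
    rw [← hc, ← map_pow, ZMod.pow_card c]
  have h2 : ∀ b : ℤ, ((u ^ b : Lˣ) : L) ∈ eig (mat g) → ((u ^ (2 * b) : Lˣ) : L) ∈ eig (mat g) := fun b hb => by
    have := eval_sq P ((u ^ b : Lˣ) : L)
    rw [mem_eig_iff_eval₂.1 hb, zero_pow (by norm_num), hbase, ← Units.val_pow_eq_pow_val, ← zpow_natCast,
      ← zpow_mul, mul_comm] at this
    exact mem_eig_iff_eval₂.2 this
  have e1 : ((u ^ (1 : ℤ) : Lˣ) : L) ∈ eig (mat g) := by rw [zpow_one]; exact hu1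
  have hmem : ∀ b ∈ ({1, 2, 4, -1, -2, -4} : Finset ℤ), ((u ^ b : Lˣ) : L) ∈ eig (mat g) := fun b hb => by
    simp only [Finset.mem_insert, Finset.mem_singleton] at hb
    rcases hb with rfl | rfl | rfl | rfl | rfl | rfl
    exacts [e1, h2 1 e1, h2 _ (h2 1 e1), (hcl 1 e1).1, (hcl _ (h2 1 e1)).1, (hcl _ (h2 _ (h2 1 e1))).1]
  have hle := (eig_eq_image (p := p) (hu ▸ dvd_rfl) ({1, 2, 4, -1, -2, -4} : Finset ℤ)
    (by rcases hp with rfl | rfl <;> decide) hmem).1
  simp at hle

theorem not_composite {p r : ℕ} (hp : p.Prime) (hr : r.Prime) (hne : p ≠ r) (hp2 : p ≠ 2) (g : S8) :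
    orderOf g ≠ p * r := by
  intro h
  have ha : orderOf (g ^ r) = p := by
    rw [orderOf_pow, h, Nat.gcd_eq_right (dvd_mul_left r p), Nat.mul_div_cancel _ hr.pos]
  have hb : orderOf (g ^ p) = r := by
    rw [orderOf_pow, h, Nat.gcd_eq_right (dvd_mul_right p r), Nat.mul_div_cancel_left _ hp.pos]
  have hane : g ^ r ≠ 1 := fun e => by rw [e, orderOf_one] at ha; exact hp.ne_one ha.symm
  rcases cases_centralizer params hane with ⟨h4, -⟩ | ⟨-, hc⟩
  · have := orderOf_dvd_of_pow_eq_one h4
    rw [ha, show (4 : ℕ) = 2 ^ 2 from rfl] at this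
    exact hp2 ((Nat.prime_dvd_prime_iff_eq hp Nat.prime_two).1 (hp.dvd_of_dvd_pow this))
  · have d1 := Subgroup.orderOf_dvd_natCard (Subgroup.centralizer ({g ^ r} : Set S8))
      (Subgroup.mem_centralizer_singleton_iff.2 (show g ^ r * g ^ r = g ^ r * g ^ r from rfl))
    have d2 := Subgroup.orderOf_dvd_natCard (Subgroup.centralizer ({g ^ r} : Set S8))
      (Subgroup.mem_centralizer_singleton_iff.2 (Commute.pow_pow_self g p r).eq)
    rw [ha] at d1
    rw [hb] at d2
    obtain ⟨c, hc'⟩ : ∃ c, c = Nat.card ↥(Subgroup.centralizer ({g ^ r} : Set S8)) := ⟨_, rfl⟩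
    rw [← hc'] at hc d1 d2
    have hcp : c.Prime := by
      simp only [compOrders, Set.mem_insert_iff, Set.mem_singleton_iff] at hc
      rcases hc with rfl | rfl | rfl <;> norm_num
    exact hne (((Nat.prime_dvd_prime_iff_eq hp hcp).1 d1).trans ((Nat.prime_dvd_prime_iff_eq hr hcp).1 d2).symm)

theorem eq_inl {x : G8} (h : Nat.Coprime (orderOf x) 3) :
    ∃ g : S8, x = SemidirectProduct.inl g ∧ orderOf g = orderOf x := by
  have hr : x.right = 1 := orderOf_eq_one_iff.1 (Nat.eq_one_of_dvd_coprimes h
    (orderOf_map_dvd SemidirectProduct.rightHom x) ((orderOf_dvd_natCard x.right).trans (dvd_of_eq card_gal)))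
  refine ⟨x.left, SemidirectProduct.ext rfl hr, ?_⟩
  rw [← orderOf_injective (SemidirectProduct.inl : S8 →* G8) SemidirectProduct.inl_injective x.left]
  exact congrArg orderOf (SemidirectProduct.ext rfl hr.symm : (SemidirectProduct.inl x.left : G8) = x)

theorem no_order (x : G8) : orderOf x ∉ ({21, 26, 35, 39, 65, 91} : Finset ℕ) := by
  intro h
  simp only [Finset.mem_insert, Finset.mem_singleton] at h
  have inner : ∀ p r : ℕ, p.Prime → r.Prime → p ≠ r → p ≠ 2 → Nat.Coprime (p * r) 3 → orderOf x ≠ p * r :=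
    fun p r hp hr hne hp2 hc e => by
      obtain ⟨g, -, hg⟩ := eq_inl (x := x) (e ▸ hc)
      exact not_composite hp hr hne hp2 g (hg.trans e)
  have outer : ∀ p : ℕ, p = 7 ∨ p = 13 → orderOf x ≠ 3 * p := by
    intro p hp e
    have hpp : p.Prime := by rcases hp with rfl | rfl <;> norm_num
    have ht : orderOf (x ^ 3) = p := by
      rw [orderOf_pow, e, Nat.gcd_eq_right (dvd_mul_right 3 p), Nat.mul_div_cancel_left _ (by norm_num)]
    have hy : orderOf (x ^ p) = 3 := by
      rw [orderOf_pow, e, Nat.gcd_eq_right (dvd_mul_left p 3), Nat.mul_div_cancel _ hpp.pos]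
    obtain ⟨g, hgx, hg⟩ := eq_inl (x := x ^ 3) (by rw [ht]; rcases hp with rfl | rfl <;> norm_num)
    have hσ : (x ^ p).right ≠ 1 := fun h1 => by
      have h2 : orderOf (x ^ p).left = 3 := by
        rw [← orderOf_injective (SemidirectProduct.inl : S8 →* G8) SemidirectProduct.inl_injective (x ^ p).left,
          show (SemidirectProduct.inl (x ^ p).left : G8) = x ^ p from SemidirectProduct.ext rfl h1.symm, hy]
      have h3 := orderOf_dvd_natCard (x ^ p).left
      rw [h2] at h3
      exact three_not_dvd params h3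
    have hc : x ^ p * SemidirectProduct.inl g = SemidirectProduct.inl g * x ^ p := by
      rw [← hgx]; exact (Commute.pow_pow_self x p 3).eq
    have hl := congrArg SemidirectProduct.left hc
    simp at hl
    exact no_commute hp (hg.trans ht) hσ _ hl
  rcases h with h | h | h | h | h | h
  · exact outer 7 (Or.inl rfl) h
  · exact inner 13 2 (by norm_num) (by norm_num) (by norm_num) (by norm_num) (by norm_num) h
  · exact inner 5 7 (by norm_num) (by norm_num) (by norm_num) (by norm_num) (by norm_num) h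
  · exact outer 13 (Or.inr rfl) h
  · exact inner 5 13 (by norm_num) (by norm_num) (by norm_num) (by norm_num) (by norm_num) h
  · exact inner 7 13 (by norm_num) (by norm_num) (by norm_num) (by norm_num) (by norm_num) h

theorem sq_one_W8 (M : W8) : M ^ 2 = 1 := Multiplicative.toAdd.injective (by
  rw [toAdd_pow, toAdd_one]
  ext i j
  simp [CharTwo.two_eq_zero])

theorem no_order_H8 (z : H8) : orderOf z ∉ ({21, 26, 35, 39, 65, 91} : Finset ℕ) := by
  intro hz
  have hd : orderOf z.right ∣ orderOf z := orderOf_map_dvd SemidirectProduct.rightHom z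
  have hd2 : orderOf z ∣ orderOf z.right * 2 := orderOf_dvd_of_pow_eq_one (by
    have h1 : (z ^ orderOf z.right).right = 1 := by
      rw [← SemidirectProduct.rightHom_eq_right, map_pow]; exact pow_orderOf_eq_one z.right
    rw [pow_mul, show z ^ orderOf z.right = SemidirectProduct.inl (z ^ orderOf z.right).left from
      SemidirectProduct.ext rfl h1, ← map_pow, sq_one_W8, map_one])
  have hn := no_order z.right
  by_cases ho : Odd (orderOf z)
  · exact hn (Nat.dvd_antisymm hd (Nat.Coprime.dvd_of_dvd_mul_right (Nat.coprime_two_right.2 ho) hd2) ▸ hz)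
  · have h26 : orderOf z = 26 := by
      simp only [Finset.mem_insert, Finset.mem_singleton] at hz
      rcases hz with h | h | h | h | h | h <;> rw [h] at ho <;> first | exact h | exact absurd (by decide) ho
    rw [h26] at hd hd2
    obtain ⟨d, hd'⟩ : ∃ d, d = orderOf z.right := ⟨_, rfl⟩
    rw [← hd'] at hd hd2
    have h13 : d = 13 := by
      have h13 : 13 ∣ d :=
        (Nat.Prime.dvd_mul (by norm_num)).1 ((show 13 ∣ 26 by norm_num).trans hd2) |>.resolve_right (by norm_num)
      obtain ⟨c, hc⟩ := h13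
      have hc2 : c ∣ 2 := Nat.dvd_of_mul_dvd_mul_left (k := 13) (by norm_num) (by rw [← hc]; exact hd)
      rcases (Nat.dvd_prime Nat.prime_two).1 hc2 with rfl | rfl
      · exact hc
      · exact absurd (by rw [← hd', hc]; decide) hn
    obtain ⟨g, hgx, hg⟩ := eq_inl (x := z.right) (by rw [← hd', h13]; norm_num)
    have hy : orderOf (z ^ 13) = 2 := by
      rw [orderOf_pow, h26]
      norm_num
    have hyr : (z ^ 13).right = 1 := by
      rw [← SemidirectProduct.rightHom_eq_right, map_pow, SemidirectProduct.rightHom_eq_right, ← h13, hd']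
      exact pow_orderOf_eq_one z.right
    have hc : z * z ^ 13 = z ^ 13 * z := (Commute.self_pow z 13).eq
    have hl := congrArg SemidirectProduct.left hc
    rw [SemidirectProduct.mul_left, SemidirectProduct.mul_left, hyr, map_one, MulAut.one_apply,
      mul_comm (z ^ 13).left] at hl
    have hfix := mul_left_cancel hl
    have h0 : ((z ^ 13).left).toAdd = 0 := fpf13 (g := g) (by rw [hg, ← hd', h13]) (by
      have := congrArg Multiplicative.toAdd hfix
      rw [hgx] at this
      simpa [rho, lin] using this)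
    have : z ^ 13 = 1 := SemidirectProduct.ext (Multiplicative.toAdd.injective h0) hyr
    rw [this, orderOf_one] at hy
    norm_num at hy

theorem orderOf_fix {x : G8} {M : Matrix (Fin 4) (Fin 4) K} (hM : M ≠ 0) (hfix : lin x M = M)
    (hodd : Odd (orderOf x)) : ∃ z : H8, orderOf z = 2 * orderOf x := by
  let w : H8 := SemidirectProduct.inl (Multiplicative.ofAdd M)
  let y : H8 := SemidirectProduct.inr x
  have hw : orderOf w = 2 := by
    haveI : Fact (Nat.Prime 2) := ⟨Nat.prime_two⟩
    refine orderOf_eq_prime (by rw [← map_pow, sq_one_W8, map_one]) fun h => hM ?_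
    have := congrArg (fun z : H8 => z.left.toAdd) h
    simpa [w] using this
  have hy : orderOf y = orderOf x := orderOf_injective _ SemidirectProduct.inr_injective x
  have hc : Commute w y := by
    show w * y = y * w
    refine SemidirectProduct.ext ?_ (by simp [w, y])
    show Multiplicative.ofAdd M * rho 1 1 = 1 * Multiplicative.ofAdd (lin x M)
    rw [map_one, hfix, one_mul]
    exact mul_one _
  exact ⟨w * y, by rw [hc.orderOf_mul_eq_mul_orderOf_of_coprime (by rw [hw, hy]; exact Nat.coprime_two_left.2 hodd), hw, hy]⟩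

/-- The rational matrix of order five. -/
def five : Matrix (Fin 4) (Fin 4) (ZMod 2) := !![1, 1, 0, 1; 1, 0, 1, 0; 0, 1, 0, 0; 1, 0, 0, 0]

theorem five_pow : five ^ 5 = 1 ∧ five ≠ 1 := by decide +kernel

theorem hasGraph_H8 : HasGraph H8 := by
  have h := params
  obtain ⟨σ, hσ⟩ : ∃ σ : Gal8, σ ≠ 1 := by
    haveI : Nontrivial Gal8 := Finite.one_lt_card_iff_nontrivial.1 (by rw [card_gal]; norm_num)
    exact exists_ne 1
  have hσ3 : orderOf σ = 3 := by
    rcases (Nat.dvd_prime Nat.prime_three).1 (card_gal ▸ orderOf_dvd_natCard σ) with e | e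
    · exact absurd (orderOf_eq_one_iff.1 e) hσ
    · exact e
  have hrat : ∀ (τ : K →+* K) (A : Matrix (Fin 4) (Fin 4) (ZMod 2)),
      (A.map (algebraMap (ZMod 2) K)).map τ = A.map (algebraMap (ZMod 2) K) := fun τ A => by
    rw [Matrix.map_map, ← RingHom.coe_comp, Subsingleton.elim (τ.comp (algebraMap (ZMod 2) K)) (algebraMap (ZMod 2) K)]
  let t : S8 := uS h 0 1 * wS h
  have htm : mat t = five.map (algebraMap (ZMod 2) K) := by
    show uM 1 (0 : K) 1 * wM K = _
    ext i j
    fin_cases i <;> fin_cases j <;>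
      simp [five, uM, wM, th, Matrix.mul_apply, Fin.sum_univ_four]
  have ht : orderOf t = 5 := by
    haveI : Fact (Nat.Prime 5) := ⟨Nat.prime_five⟩
    refine orderOf_eq_prime (mat_injective ?_) fun e => five_pow.2 ?_
    · rw [mat_pow, htm, mat_one]
      have := congrArg ((algebraMap (ZMod 2) K).mapMatrix) five_pow.1
      simpa [map_pow] using this
    · refine Matrix.map_injective (algebraMap (ZMod 2) K).injective ?_
      show five.map (algebraMap (ZMod 2) K) = (1 : Matrix (Fin 4) (Fin 4) (ZMod 2)).map (algebraMap (ZMod 2) K)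
      rw [← htm, e, mat_one, Matrix.map_one _ (map_zero _) (map_one _)]
  have htσ : act σ t = t := mat_injective (by rw [mat_act, htm]; exact hrat (σ : K →+* K) five)
  have hΩ : Cfsg.suzukiForm K ≠ 0 := fun e => by
    have := congrFun (congrFun e 0) 3
    simp [Cfsg.suzukiForm] at this
  have hΩ2 : ∀ τ : Gal8, (Cfsg.suzukiForm K).map τ = Cfsg.suzukiForm K := fun τ => by
    ext i j; fin_cases i <;> fin_cases j <;> simp [Cfsg.suzukiForm]
  have htΩ : mat t * Cfsg.suzukiForm K * (sq (mat t))ᵀ = Cfsg.suzukiForm K := by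
    rw [htm, show sq (five.map (algebraMap (ZMod 2) K)) = five.map (algebraMap (ZMod 2) K) from
      hrat (frobenius K 2) five]
    ext i j
    fin_cases i <;> fin_cases j <;>
      simp [five, Cfsg.suzukiForm, Matrix.mul_apply, Fin.sum_univ_four, CharTwo.add_self_eq_zero]
  have e6 : ∃ z : H8, orderOf z = 6 := by
    have ho : orderOf (SemidirectProduct.inr σ : G8) = 3 :=
      (orderOf_injective _ SemidirectProduct.inr_injective σ).trans hσ3
    obtain ⟨z, hz⟩ := orderOf_fix (x := SemidirectProduct.inr σ) hΩ (by simp [lin, mat_one, hΩ2]) (by rw [ho]; decide)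
    exact ⟨z, hz.trans (by rw [ho])⟩
  have e10 : ∃ z : H8, orderOf z = 10 := by
    have ho : orderOf (SemidirectProduct.inl t : G8) = 5 :=
      (orderOf_injective _ SemidirectProduct.inl_injective t).trans ht
    obtain ⟨z, hz⟩ := orderOf_fix (x := SemidirectProduct.inl t) hΩ (by simp [lin, htΩ]) (by rw [ho]; decide)
    exact ⟨z, hz.trans (by rw [ho])⟩
  have e14 : ∃ z : H8, orderOf z = 14 := by
    obtain ⟨k, hk⟩ := IsCyclic.exists_ofOrder_eq_natCard (α := Kˣ)
    rw [Nat.card_units, GaloisField.card 2 3 (by norm_num)] at hk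
    have hk7 : k ^ 7 = 1 := by
      have := pow_orderOf_eq_one k
      rwa [hk, show 2 ^ 3 - 1 = 7 from rfl] at this
    have ho : orderOf (SemidirectProduct.inl (dS h k) : G8) = 7 :=
      (orderOf_injective _ SemidirectProduct.inl_injective _).trans
        ((orderOf_injective _ (dS_injective h) k).trans hk)
    obtain ⟨z, hz⟩ := orderOf_fix (x := SemidirectProduct.inl (dS h k))
      (M := Matrix.single 0 1 (1 : K)) (fun e => by simpa using congrFun (congrFun e 0) 1) (by
        have hm : mat (dS h k) = dM 1 k := rfl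
        simp only [lin, SemidirectProduct.left_inl, SemidirectProduct.right_inl, hm]
        have hsq : (sq (dM 1 k))ᵀ = sq (dM 1 k) := by
          ext i j; fin_cases i <;> fin_cases j <;> simp [sq, dM]
        rw [hsq]
        ext i j
        fin_cases i <;> fin_cases j <;>
          simp [dM, sq, Matrix.mul_apply, Fin.sum_univ_four, Matrix.single, frobenius_def]
        rw [← pow_mul, ← pow_add]
        exact congrArg Units.val hk7) (by rw [ho]; decide)
    exact ⟨z, hz.trans (by rw [ho])⟩
  have e15 : ∃ z : H8, orderOf z = 15 := by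
    let x : G8 := SemidirectProduct.inl t
    let y : G8 := SemidirectProduct.inr σ
    have hx : orderOf x = 5 := (orderOf_injective _ SemidirectProduct.inl_injective t).trans ht
    have hy : orderOf y = 3 := (orderOf_injective _ SemidirectProduct.inr_injective σ).trans hσ3
    have hc : Commute x y := by
      show x * y = y * x
      ext1 <;> simp [x, y, htσ]
    refine ⟨SemidirectProduct.inr (x * y), ?_⟩
    rw [orderOf_injective _ SemidirectProduct.inr_injective,
      hc.orderOf_mul_eq_mul_orderOf_of_coprime (by rw [hx, hy]; decide), hx, hy]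
  have hcard : Nat.card H8 = 2 ^ (3 * 16) * (2 ^ 6 * (5 * 13 * 7) * 3) := by
    rw [SemidirectProduct.card, card_G8, Nat.card_congr (Multiplicative.toAdd (α := Matrix (Fin 4) (Fin 4) K))]
    congr 1
    show Nat.card (Fin 4 → Fin 4 → K) = _
    rw [Nat.card_fun, Nat.card_fun, Nat.card_fin, GaloisField.card 2 3 (by norm_num)]
    norm_num
  refine hasGraph_of (fun p hp hd => ?_) e6 e10 e14 e15 ?_ no_order_H8
  · rw [hcard] at hd
    simp only [hp.dvd_mul] at hd
    have pp : ∀ {a : ℕ}, a.Prime → p ∣ a → p = a := fun ha h' => (Nat.prime_dvd_prime_iff_eq hp ha).1 h'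
    simp only [primesT, Finset.mem_insert, Finset.mem_singleton]
    rcases hd with h' | (h' | (h' | h') | h') | h'
    · exact Or.inl (pp Nat.prime_two (hp.dvd_of_dvd_pow h'))
    · exact Or.inl (pp Nat.prime_two (hp.dvd_of_dvd_pow h'))
    · exact Or.inr (Or.inr (Or.inl (pp (by norm_num) h')))
    · exact Or.inr (Or.inr (Or.inr (Or.inr (pp (by norm_num) h'))))
    · exact Or.inr (Or.inr (Or.inr (Or.inl (pp (by norm_num) h'))))
    · exact Or.inr (Or.inl (pp (by norm_num) h'))
  · rw [hcard]
    exact dvd_mul_of_dvd_right (by norm_num) _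

/-- Groups of unbounded order with this prime graph. -/
theorem exists_large (N : ℕ) : ∃ (H : Type) (_ : Group H) (_ : Finite H), N < Nat.card H ∧ HasGraph H := by
  haveI hn : (SemidirectProduct.inl : W8 →* H8).range.Normal := by
    rw [SemidirectProduct.range_inl_eq_ker_rightHom]
    infer_instance
  obtain ⟨H, i1, i2, hN, hr⟩ := Cfsg.Lib.Spec.exists_isospectral_large (G := H8)
    (SemidirectProduct.inl : W8 →* H8).range (fun e => by
      have h1 : SemidirectProduct.inl (Multiplicative.ofAdd (1 : Matrix (Fin 4) (Fin 4) K)) = (1 : H8) :=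
        (Subgroup.mem_bot).1 (e ▸ ⟨_, rfl⟩)
      have := congrArg (fun z : H8 => z.left.toAdd) h1
      simp at this)
    Nat.prime_two (by rintro _ ⟨M, rfl⟩; rw [← map_pow, sq_one_W8, map_one]) N
  exact ⟨H, i1, inferInstance, by rwa [Nat.card_eq_fintype_card], hasGraph_H8.of_range hr⟩

end Cfsg.Lib.Spec.PSpSixThree
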